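import Cfsg.Agent.H910.PU.Core
import Cfsg.Agent.Lib.AutSL2

/-!
# Rank one groups `SL₂(k)`: the relations of opposite Sylow subgroups (helper331, for S5261, `StRk1`)

* `Rel P P'` : there are a finite field `k` and parametrizations `x`, `y` of `P`, `P'` by `k` with the relations of
  `SL₂(k)`;
* `Slf P` : `P` is transitive on its other conjugates `P'`, and `Rel P P'` for all of them;
* `Slf.map`, `Slf.lift`, `Slf.of_normal`, `slf_of_core` : overgroups, isomorphisms, preimages, `p'`-cores;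
* `slf_sl2` : the Sylow `p`-subgroups of `SL₂(k)`, `k` finite of characteristic `p`;
* `slf_quot` : the same for the quotients of `SL₂(k)` by subgroups of order prime to `p`;
* `Slf.sylow` : the conclusion of `StRk1`.
-/

set_option autoImplicit false

namespace Cfsg.Agent.H331.D4

open Subgroup Cfsg.Agent.H910.PU

/-- `P` and `P'` are parametrized by a finite field, with the relations of `SL₂(k)`. -/
def Rel {G : Type*} [Group G] (P P' : Subgroup G) : Prop :=
  ∃ (k : Type) (_ : Field k) (_ : Fintype k) (x y : k → G),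
    Set.range x = P ∧ Set.range y = P' ∧
    Function.Injective x ∧ Function.Injective y ∧ (∀ a b, x (a + b) = x a * x b) ∧ (∀ a b, y (a + b) = y a * y b) ∧
    ∀ f : k, f ≠ 0 → ∀ g : k,
      (x f * y (-f⁻¹) * x f) * x g * (x f * y (-f⁻¹) * x f)⁻¹ = y (-(f⁻¹ ^ 2 * g)) ∧
      (x f * y (-f⁻¹) * x f) * y g * (x f * y (-f⁻¹) * x f)⁻¹ = x (-(f ^ 2 * g))

/-- The rank one facts. -/
def Slf {G : Type*} [Group G] (P : Subgroup G) : Prop :=
  ∀ g : G, cj g P ≠ P → (∀ h : G, cj h P ≠ P → ∃ x ∈ P, cj x (cj g P) = cj h P) ∧ Rel P (cj g P)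

section

variable {G : Type*} [Group G]

theorem inj_on {L : Type*} [Group L] (f : L →* G) {P : Subgroup L} (hP : ∀ x ∈ P, f x = 1 → x = 1) {x y : L}
    (hx : x ∈ P) (hy : y ∈ P) (h : f x = f y) : x = y := by
  have h1 := hP (x * y⁻¹) (P.mul_mem hx (P.inv_mem hy)) (by rw [map_mul, map_inv, h, mul_inv_cancel])
  exact mul_inv_eq_one.1 h1

theorem Rel.map {L : Type*} [Group L] (f : L →* G) {P P' : Subgroup L} (h : Rel P P')
    (hP : ∀ x ∈ P, f x = 1 → x = 1) (hP' : ∀ x ∈ P', f x = 1 → x = 1) : Rel (P.map f) (P'.map f) := by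
  obtain ⟨k, i1, i2, x, y, h1, h2, h3, h4, h5, h6, h7⟩ := h
  have hx : ∀ a, x a ∈ P := fun a => by
    have : x a ∈ Set.range x := ⟨a, rfl⟩
    rw [h1] at this
    exact this
  have hy : ∀ a, y a ∈ P' := fun a => by
    have : y a ∈ Set.range y := ⟨a, rfl⟩
    rw [h2] at this
    exact this
  refine ⟨k, i1, i2, fun a => f (x a), fun a => f (y a), ?_, ?_, ?_, ?_, ?_, ?_, ?_⟩
  · rw [Subgroup.coe_map, ← h1, ← Set.range_comp]
    rfl
  · rw [Subgroup.coe_map, ← h2, ← Set.range_comp]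
    rfl
  · exact fun a b h => h3 (inj_on f hP (hx a) (hx b) h)
  · exact fun a b h => h4 (inj_on f hP' (hy a) (hy b) h)
  · intro a b
    show f (x (a + b)) = f (x a) * f (x b)
    rw [h5, map_mul]
  · intro a b
    show f (y (a + b)) = f (y a) * f (y b)
    rw [h6, map_mul]
  · intro a ha b
    obtain ⟨e1, e2⟩ := h7 a ha b
    constructor
    · show (f (x a) * f (y (-a⁻¹)) * f (x a)) * f (x b) * (f (x a) * f (y (-a⁻¹)) * f (x a))⁻¹ = f (y _)
      rw [← e1]
      simp only [map_mul, map_inv]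
    · show (f (x a) * f (y (-a⁻¹)) * f (x a)) * f (y b) * (f (x a) * f (y (-a⁻¹)) * f (x a))⁻¹ = f (x _)
      rw [← e2]
      simp only [map_mul, map_inv]

theorem Rel.conj {P P' : Subgroup G} (h : Rel P P') (g : G) : Rel (cj g P) (cj g P') := by
  have hinj : ∀ x, (MulAut.conj g).toMonoidHom x = 1 → x = 1 := fun x hx =>
    (MulAut.conj g).injective (hx.trans (map_one _).symm)
  exact h.map (MulAut.conj g).toMonoidHom (fun x _ => hinj x) (fun x _ => hinj x)

/-- Lifting the relations through a homomorphism. -/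
theorem Rel.lift {G' : Type*} [Group G'] (π : G →* G') {P P' : Subgroup G} (h : Rel (P.map π) (P'.map π))
    (hP : ∀ x ∈ P, π x = 1 → x = 1) (hP' : ∀ x ∈ P', π x = 1 → x = 1)
    (h1 : ∀ w : G, cj (π w) (P.map π) = P'.map π → cj w P = P')
    (h2 : ∀ w : G, cj (π w) (P'.map π) = P.map π → cj w P' = P) : Rel P P' := by
  obtain ⟨k, i1, i2, x, y, r1, r2, r3, r4, r5, r6, r7⟩ := h
  have hx : ∀ a, ∃ z ∈ P, π z = x a := fun a => by
    have : x a ∈ Set.range x := ⟨a, rfl⟩
    rw [r1] at this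
    exact this
  have hy : ∀ a, ∃ z ∈ P', π z = y a := fun a => by
    have : y a ∈ Set.range y := ⟨a, rfl⟩
    rw [r2] at this
    exact this
  choose X hX1 hX2 using hx
  choose Y hY1 hY2 using hy
  refine ⟨k, i1, i2, X, Y, ?_, ?_, ?_, ?_, ?_, ?_, ?_⟩
  · ext z
    constructor
    · rintro ⟨a, rfl⟩
      exact hX1 a
    · intro hz
      have h3 : π z ∈ Set.range x := by
        rw [r1]
        exact ⟨z, hz, rfl⟩
      obtain ⟨a, ha⟩ := h3
      exact ⟨a, inj_on π hP (hX1 a) hz (by rw [hX2, ha])⟩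
  · ext z
    constructor
    · rintro ⟨a, rfl⟩
      exact hY1 a
    · intro hz
      have h3 : π z ∈ Set.range y := by
        rw [r2]
        exact ⟨z, hz, rfl⟩
      obtain ⟨a, ha⟩ := h3
      exact ⟨a, inj_on π hP' (hY1 a) hz (by rw [hY2, ha])⟩
  · intro a b h
    apply r3
    rw [← hX2, ← hX2, h]
  · intro a b h
    apply r4
    rw [← hY2, ← hY2, h]
  · intro a b
    exact inj_on π hP (hX1 _) (P.mul_mem (hX1 a) (hX1 b)) (by rw [map_mul, hX2, hX2, hX2, r5])
  · intro a b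
    exact inj_on π hP' (hY1 _) (P'.mul_mem (hY1 a) (hY1 b)) (by rw [map_mul, hY2, hY2, hY2, r6])
  · intro f hf g
    have hf2 : f ^ 2 ≠ 0 := pow_ne_zero 2 hf
    have hf2' : f⁻¹ ^ 2 ≠ 0 := pow_ne_zero 2 (inv_ne_zero hf)
    set w := X f * Y (-f⁻¹) * X f with hw
    have hπw : π w = x f * y (-f⁻¹) * x f := by
      rw [hw, map_mul, map_mul, hX2, hY2]
    have m1 : ∀ a, x a ∈ P.map π := fun a => ⟨X a, hX1 a, hX2 a⟩
    have m2 : ∀ a, y a ∈ P'.map π := fun a => ⟨Y a, hY1 a, hY2 a⟩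
    have s1 : ∀ z ∈ P.map π, ∃ a, x a = z := fun z hz => by
      have : z ∈ Set.range x := by rw [r1]; exact hz
      exact this
    have s2 : ∀ z ∈ P'.map π, ∃ a, y a = z := fun z hz => by
      have : z ∈ Set.range y := by rw [r2]; exact hz
      exact this
    have c1 : cj (π w) (P.map π) = P'.map π := by
      apply le_antisymm
      · rintro _ ⟨z, hz, rfl⟩
        obtain ⟨a, rfl⟩ := s1 z hz
        show π w * x a * (π w)⁻¹ ∈ P'.map π
        rw [hπw, (r7 f hf a).1]
        exact m2 _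
      · intro z hz
        obtain ⟨a, rfl⟩ := s2 z hz
        refine ⟨x (-(f ^ 2 * a)), m1 _, ?_⟩
        show π w * x (-(f ^ 2 * a)) * (π w)⁻¹ = y a
        rw [hπw, (r7 f hf _).1]
        congr 1
        field_simp
    have c2 : cj (π w) (P'.map π) = P.map π := by
      apply le_antisymm
      · rintro _ ⟨z, hz, rfl⟩
        obtain ⟨a, rfl⟩ := s2 z hz
        show π w * y a * (π w)⁻¹ ∈ P.map π
        rw [hπw, (r7 f hf a).2]
        exact m1 _
      · intro z hz
        obtain ⟨a, rfl⟩ := s1 z hz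
        refine ⟨y (-(f⁻¹ ^ 2 * a)), m2 _, ?_⟩
        show π w * y (-(f⁻¹ ^ 2 * a)) * (π w)⁻¹ = x a
        rw [hπw, (r7 f hf _).2]
        congr 1
        field_simp
    have d1 := h1 w c1
    have d2 := h2 w c2
    constructor
    · refine inj_on π hP' ?_ (hY1 _) ?_
      · rw [← d1]
        exact mem_cj_of (hX1 g)
      · rw [map_mul, map_mul, map_inv, hπw, hX2, hY2]
        exact (r7 f hf g).1
    · refine inj_on π hP ?_ (hX1 _) ?_
      · rw [← d2]
        exact mem_cj_of (hY1 g)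
      · rw [map_mul, map_mul, map_inv, hπw, hY2, hX2]
        exact (r7 f hf g).2

theorem cj_inj_on {L : Type*} [Group L] (f : L →* G) {P : Subgroup L} (hP : ∀ x ∈ P, f x = 1 → x = 1) (g : L) :
    ∀ x ∈ cj g P, f x = 1 → x = 1 := by
  rintro _ ⟨x, hx, rfl⟩ h
  have h1 : f (g * x * g⁻¹) = 1 := h
  rw [map_mul, map_mul, map_inv, mul_inv_eq_one, mul_eq_left] at h1
  show g * x * g⁻¹ = 1
  rw [hP x hx h1, mul_one, mul_inv_cancel]

/-- Overgroups and isomorphisms. -/
theorem Slf.map {L : Type*} [Group L] (f : L →* G) {P : Subgroup L} (h : Slf P)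
    (hP : ∀ x ∈ P, f x = 1 → x = 1)
    (hf : ∀ g : G, ∃ l : L, cj g (P.map f) = cj (f l) (P.map f)) : Slf (P.map f) := by
  intro g hg
  obtain ⟨l, hl⟩ := hf g
  have hl' : cj l P ≠ P := by
    intro h1
    apply hg
    rw [hl, ← cj_map, h1]
  obtain ⟨h1, h2⟩ := h l hl'
  refine ⟨fun k hk => ?_, ?_⟩
  · obtain ⟨m, hm⟩ := hf k
    have hm' : cj m P ≠ P := by
      intro h1
      apply hk
      rw [hm, ← cj_map, h1]
    obtain ⟨z, hz, h4⟩ := h1 m hm'
    refine ⟨f z, ⟨z, hz, rfl⟩, ?_⟩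
    rw [hl, hm, ← cj_map, ← cj_map, ← cj_map, h4]
  · rw [hl, ← cj_map]
    exact h2.map f hP (cj_inj_on f hP l)

/-- Preimages. -/
theorem Slf.lift {G' : Type*} [Group G'] (π : G →* G') {P : Subgroup G}
    (h : Slf (P.map π)) (hd : ∀ x ∈ P, π x = 1 → x = 1)
    (hn : ∀ g : G, cj (π g) (P.map π) = P.map π → cj g P = P) : Slf P := by
  intro g hg
  have hg' : cj (π g) (P.map π) ≠ P.map π := fun h1 => hg (hn g h1)
  obtain ⟨h1, h2⟩ := h _ hg'
  refine ⟨fun k hk => ?_, ?_⟩
  · obtain ⟨_, ⟨x, hx, rfl⟩, h3⟩ := h1 (π k) fun h1 => hk (hn k h1)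
    refine ⟨x, hx, ?_⟩
    rw [cj_cj, cj_eq_iff]
    apply hn
    rw [cj_cj, ← map_mul, cj_eq_iff, ← map_inv, ← map_mul] at h3
    exact h3
  · rw [← cj_map] at h2
    refine h2.lift π hd (cj_inj_on π hd g) (fun w hw => ?_) (fun w hw => ?_)
    · rw [cj_eq_iff]
      apply hn
      rw [map_mul, map_inv, ← cj_eq_iff, hw, cj_map]
    · rw [cj_cj]
      apply hn
      rw [map_mul, ← cj_cj, ← cj_map π g, hw]

/-- The facts for one conjugate give them for all. -/
theorem Slf.conj {P : Subgroup G} (h : Slf P) (k : G) : Slf (cj k P) := by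
  intro g hg
  have e : ∀ g : G, cj g (cj k P) = cj k (cj (k⁻¹ * g * k) P) := by
    intro g
    rw [cj_cj, cj_cj]
    congr 1
    group
  have hg' : cj (k⁻¹ * g * k) P ≠ P := by
    intro h1
    apply hg
    rw [e, h1]
  obtain ⟨h1, h2⟩ := h _ hg'
  refine ⟨fun h' hh' => ?_, ?_⟩
  · have hh : cj (k⁻¹ * h' * k) P ≠ P := by
      intro h3
      apply hh'
      rw [e, h3]
    obtain ⟨x, hx, h3⟩ := h1 _ hh
    refine ⟨k * x * k⁻¹, mem_cj_of hx, ?_⟩
    rw [e g, e h', ← h3, cj_cj, inv_mul_cancel_right, ← cj_cj]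
  · rw [e]
    exact h2.conj k

/-- From a normal subgroup containing `P` to the whole group. -/
theorem Slf.of_normal [Finite G] {p : ℕ} [Fact p.Prime] (P : Sylow p G) (L : Subgroup G) [hL : L.Normal]
    (hPL : (P : Subgroup G) ≤ L) (h : ∀ Q : Sylow p L, Slf (Q : Subgroup L)) : Slf (P : Subgroup G) := by
  have h1 := h (P.subtype hPL)
  have h2 : ((P.subtype hPL : Sylow p L) : Subgroup L).map L.subtype = P := by
    rw [Sylow.coe_subtype, Subgroup.subgroupOf_map_subtype, inf_eq_left.2 hPL]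
  rw [← h2]
  refine Slf.map L.subtype h1 (fun x _ hx => Subtype.ext hx) fun g => ?_
  rw [h2]
  have hgP : ((g • P : Sylow p G) : Subgroup G) ≤ L := by
    rintro _ ⟨x, hx, rfl⟩
    exact hL.conj_mem _ (hPL hx) g
  obtain ⟨l, hl⟩ := MulAction.exists_smul_eq L (P.subtype hPL) ((g • P : Sylow p G).subtype hgP)
  refine ⟨l, ?_⟩
  have h3 : ((l • P.subtype hPL : Sylow p L) : Subgroup L) = cj l ((P.subtype hPL : Sylow p L) : Subgroup L) := rfl
  have h4 : (((g • P : Sylow p G).subtype hgP : Sylow p L) : Subgroup L).map L.subtype = cj g (P : Subgroup G) := by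
    rw [Sylow.coe_subtype, Subgroup.subgroupOf_map_subtype, inf_eq_left.2 hgP]
    rfl
  rw [← h4, ← hl, h3, cj_map, h2]

/-- The facts on a normal subgroup of a quotient by a `p'`-group. -/
theorem slf_of_core [Finite G] {p : ℕ} [hp : Fact p.Prime] (P : Sylow p G) (N : Subgroup G) [hNn : N.Normal]
    (hN : (Nat.card N).Coprime p) (hc : ∀ n ∈ N, ∀ x ∈ (P : Subgroup G), n * x = x * n) (L : Subgroup (G ⧸ N))
    [L.Normal] (hPL : (P : Subgroup G).map (QuotientGroup.mk' N) ≤ L)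
    (h : ∀ Q : Sylow p L, Slf (Q : Subgroup L)) : Slf (P : Subgroup G) := by
  have h1 : Slf ((P : Subgroup G).map (QuotientGroup.mk' N)) :=
    Slf.of_normal (P.mapSurjective (QuotientGroup.mk'_surjective N)) L hPL h
  refine Slf.lift (QuotientGroup.mk' N) h1 (fun x hx hx1 => ?_) fun g hg => ?_
  · rw [QuotientGroup.mk'_apply, QuotientGroup.eq_one_iff] at hx1
    exact eq_one_of_coprime P.isPGroup' hN hx hx1
  · -- `g` normalizes `P N`, and `P` is characteristic in `P N = P × N`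
    have key : ∀ g : G, cj ((QuotientGroup.mk' N) g) ((P : Subgroup G).map (QuotientGroup.mk' N)) =
        (P : Subgroup G).map (QuotientGroup.mk' N) → cj g (P : Subgroup G) ≤ P := by
      intro g hg
      rintro _ ⟨x, hx, rfl⟩
      show g * x * g⁻¹ ∈ (P : Subgroup G)
      have h2 : (QuotientGroup.mk' N) (g * x * g⁻¹) ∈ (P : Subgroup G).map (QuotientGroup.mk' N) := by
        rw [← hg, ← cj_map]
        exact ⟨_, mem_cj_of hx, rfl⟩
      obtain ⟨y, hy, h3⟩ := h2
      have h4 : y⁻¹ * (g * x * g⁻¹) ∈ N := by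
        rw [← QuotientGroup.eq_one_iff, QuotientGroup.mk_mul, QuotientGroup.mk_inv]
        rw [QuotientGroup.mk'_apply, QuotientGroup.mk'_apply] at h3
        rw [h3, inv_mul_cancel]
      set n := y⁻¹ * (g * x * g⁻¹) with hn
      have h5 : g * x * g⁻¹ = y * n := by rw [hn]; group
      obtain ⟨k, hk⟩ := P.isPGroup' ⟨x, hx⟩
      obtain ⟨m, hm⟩ := P.isPGroup' ⟨y, hy⟩
      have hk' : x ^ p ^ k = 1 := congrArg Subtype.val hk
      have hm' : y ^ p ^ m = 1 := congrArg Subtype.val hm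
      have hcomm : Commute y n := (hc n h4 y hy).symm
      have h6 : (y * n) ^ (p ^ k * p ^ m) = 1 := by
        rw [← h5, conj_pow, pow_mul, hk', one_pow, mul_one, mul_inv_cancel]
      have h7 : n ^ (p ^ k * p ^ m) = 1 := by
        rw [hcomm.mul_pow, mul_comm (p ^ k), pow_mul y, hm', one_pow, one_mul] at h6
        rw [mul_comm]
        exact h6
      have h8 : n = 1 := by
        have h9 : orderOf n ∣ p ^ (k + m) := orderOf_dvd_of_pow_eq_one (by rw [pow_add]; exact h7)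
        have h10 : orderOf n ∣ Nat.card N := by
          have := orderOf_dvd_natCard (⟨n, h4⟩ : N)
          rwa [Subgroup.orderOf_mk] at this
        exact orderOf_eq_one_iff.1 (Nat.eq_one_of_dvd_coprimes (Nat.Coprime.pow_right (k + m) hN) h10 h9)
      rw [h5, h8, mul_one]
      exact hy
    have h2 := key g hg
    have hg' : cj ((QuotientGroup.mk' N) g⁻¹) ((P : Subgroup G).map (QuotientGroup.mk' N)) =
        (P : Subgroup G).map (QuotientGroup.mk' N) := by
      apply cj_inj (g := (QuotientGroup.mk' N) g)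
      rw [cj_cj, ← map_mul, mul_inv_cancel, map_one, cj_one, hg]
    have h3 := key g⁻¹ hg'
    refine le_antisymm h2 fun x hx => ?_
    rw [mem_cj]
    have h4 := h3 (mem_cj_of (g := g⁻¹) hx)
    rwa [inv_inv] at h4

/-- The statement for Sylow subgroups. -/
theorem Slf.sylow [Finite G] {p : ℕ} [Fact p.Prime] (P : Sylow p G) (h : Slf (P : Subgroup G)) {n : ℕ}
    (hP : Nat.card P = n) :
    (∀ P' P'' : Sylow p G, P' ≠ P → P'' ≠ P → ∃ x ∈ (P : Subgroup G),
      (P' : Subgroup G).map (MulAut.conj x).toMonoidHom = P'') ∧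
    (∀ P' : Sylow p G, P' ≠ P → ∃ (k : Type) (_ : Field k) (_ : Fintype k) (x y : k → G),
      Fintype.card k = n ∧ Set.range x = (P : Subgroup G) ∧ Set.range y = (P' : Subgroup G) ∧
      Function.Injective x ∧ Function.Injective y ∧ (∀ a b, x (a + b) = x a * x b) ∧ (∀ a b, y (a + b) = y a * y b) ∧
      ∀ f : k, f ≠ 0 → ∀ g : k,
        (x f * y (-f⁻¹) * x f) * x g * (x f * y (-f⁻¹) * x f)⁻¹ = y (-(f⁻¹ ^ 2 * g)) ∧
        (x f * y (-f⁻¹) * x f) * y g * (x f * y (-f⁻¹) * x f)⁻¹ = x (-(f ^ 2 * g))) := by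
  have key : ∀ P' : Sylow p G, ∃ g : G, (P' : Subgroup G) = cj g (P : Subgroup G) := by
    intro P'
    obtain ⟨g, hg⟩ := MulAction.exists_smul_eq G P P'
    refine ⟨g, ?_⟩
    rw [← hg]
    rfl
  have key2 : ∀ P' : Sylow p G, P' ≠ P → (P' : Subgroup G) ≠ P := fun P' h1 h2 => h1 (Sylow.ext h2)
  constructor
  · intro P' P'' h1 h2
    obtain ⟨g, hg⟩ := key P'
    obtain ⟨k, hk⟩ := key P''
    have hg' := key2 P' h1
    have hk' := key2 P'' h2
    rw [hg] at hg'
    rw [hk] at hk'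
    rw [hg, hk]
    exact (h g hg').1 k hk'
  · intro P' h1
    obtain ⟨g, hg⟩ := key P'
    have hg' := key2 P' h1
    rw [hg] at hg'
    obtain ⟨k, i1, i2, x, y, r1, r2, r3, r4, r5⟩ := (h g hg').2
    rw [hg]
    refine ⟨k, i1, i2, x, y, ?_, r1, r2, r3, r4, r5⟩
    rw [← hP, ← Nat.card_eq_fintype_card, Nat.card_congr (Equiv.ofInjective x r3), r1]
    rfl

end

/-! ### `SL₂(k)` -/

section

open Cfsg.Agent.Lib.SL2Mat Cfsg.Agent.Lib.AutSL2

variable {F : Type*} [Field F]

theorem up_lo_up (f : F) (hf : f ≠ 0) : up f * lo (-f⁻¹) * up f = wm f hf := by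
  refine ext_ent ?_ ?_ ?_ ?_ <;> simp only [ent_mul, up_00, up_01, up_10, up_11, lo_00, lo_01, lo_10, lo_11, wm_00, wm_01,
    wm_10, wm_11] <;> field_simp <;> ring

theorem wm_up (f : F) (hf : f ≠ 0) (g : F) : wm f hf * up g * (wm f hf)⁻¹ = lo (-(f⁻¹ ^ 2 * g)) := by
  rw [mul_inv_eq_iff_eq_mul]
  refine ext_ent ?_ ?_ ?_ ?_ <;> simp only [ent_mul, up_00, up_01, up_10, up_11, lo_00, lo_01, lo_10, lo_11, wm_00, wm_01,
    wm_10, wm_11] <;> field_simp <;> ring

theorem wm_lo (f : F) (hf : f ≠ 0) (g : F) : wm f hf * lo g * (wm f hf)⁻¹ = up (-(f ^ 2 * g)) := by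
  rw [mul_inv_eq_iff_eq_mul]
  refine ext_ent ?_ ?_ ?_ ?_ <;> simp only [ent_mul, up_00, up_01, up_10, up_11, lo_00, lo_01, lo_10, lo_11, wm_00, wm_01,
    wm_10, wm_11] <;> field_simp <;> ring

/-- the subgroup of lower unitriangular matrices -/
def loG (F : Type*) [Field F] : Subgroup (Matrix.SpecialLinearGroup (Fin 2) F) where
  carrier := Set.range lo
  mul_mem' := by
    rintro _ _ ⟨a, rfl⟩ ⟨b, rfl⟩
    exact ⟨a + b, (lo_mul a b).symm⟩
  one_mem' := ⟨0, lo_zero⟩
  inv_mem' := by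
    rintro _ ⟨a, rfl⟩
    exact ⟨-a, (lo_inv a).symm⟩

/-- The conjugates of the root group. -/
theorem cj_upG (h : Matrix.SpecialLinearGroup (Fin 2) F) :
    cj h (upG F) = upG F ∨ ∃ s : F, cj h (upG F) = cj (up s) (loG F) := by
  by_cases hc : ent h 1 0 = 0
  · left
    have hd := det_eq h
    rw [hc, mul_zero, sub_zero] at hd
    have ha : ent h 0 0 ≠ 0 := fun h0 => by rw [h0, zero_mul] at hd; exact zero_ne_one hd
    have hdd : ent h 1 1 ≠ 0 := fun h0 => by rw [h0, mul_zero] at hd; exact zero_ne_one hd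
    have key : ∀ t : F, h * up t * h⁻¹ = up (ent h 0 0 ^ 2 * t) := by
      intro t
      rw [mul_inv_eq_iff_eq_mul]
      refine ext_ent ?_ ?_ ?_ ?_ <;> simp only [ent_mul, up_00, up_01, up_10, up_11, hc]
      · ring
      · linear_combination (-(ent h 0 0) * t) * hd
      · ring
      · ring
    apply le_antisymm
    · rintro _ ⟨_, ⟨t, rfl⟩, rfl⟩
      exact ⟨_, (key t).symm⟩
    · rintro _ ⟨t, rfl⟩
      refine ⟨up ((ent h 0 0 ^ 2)⁻¹ * t), ⟨_, rfl⟩, ?_⟩
      show h * up _ * h⁻¹ = _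
      rw [key]
      congr 1
      field_simp
  · right
    refine ⟨ent h 0 0 / ent h 1 0, ?_⟩
    have hd := det_eq h
    obtain ⟨v, hv⟩ : ∃ v : Matrix.SpecialLinearGroup (Fin 2) F, v = mk 0 (-(ent h 1 0)⁻¹) (ent h 1 0) (ent h 1 1)
      (by field_simp; ring) := ⟨_, rfl⟩
    have e1 : h = up (ent h 0 0 / ent h 1 0) * v := by
      rw [hv]
      refine ext_ent ?_ ?_ ?_ ?_ <;> simp only [ent_mul, up_00, up_01, up_10, up_11, mk_00, mk_01, mk_10, mk_11] <;>
        field_simp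
      · ring
      · linear_combination -hd
      · ring
      · ring
    have key : ∀ t : F, v * up t * v⁻¹ = lo (-(ent h 1 0 ^ 2 * t)) := by
      intro t
      rw [mul_inv_eq_iff_eq_mul, hv]
      refine ext_ent ?_ ?_ ?_ ?_ <;> simp only [ent_mul, up_00, up_01, up_10, up_11, lo_00, lo_01, lo_10, lo_11, mk_00,
        mk_01, mk_10, mk_11] <;> field_simp <;> ring
    have e2 : cj v (upG F) = loG F := by
      apply le_antisymm
      · rintro _ ⟨_, ⟨t, rfl⟩, rfl⟩
        exact ⟨_, (key t).symm⟩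
      · rintro _ ⟨t, rfl⟩
        refine ⟨up (-((ent h 1 0 ^ 2)⁻¹ * t)), ⟨_, rfl⟩, ?_⟩
        show v * up _ * v⁻¹ = _
        rw [key]
        congr 1
        field_simp
    rw [← e2, cj_cj, ← e1]

theorem rel_up_lo (F : Type) [Field F] [Finite F] : Rel (upG F) (loG F) := by
  have := Fintype.ofFinite F
  refine ⟨F, inferInstance, this, up, lo, rfl, rfl, fun a b h => up_inj h, fun a b h => lo_inj h,
    fun a b => (up_mul a b).symm, fun a b => (lo_mul a b).symm, fun f hf g => ?_⟩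
  rw [up_lo_up f hf]
  exact ⟨wm_up f hf g, wm_lo f hf g⟩

/-- The root group of `SL₂(k)`. -/
theorem slf_upG (F : Type) [Field F] [Finite F] : Slf (upG F) := by
  have key : ∀ h : Matrix.SpecialLinearGroup (Fin 2) F, cj h (upG F) ≠ upG F →
      ∃ s : F, cj h (upG F) = cj (up s) (loG F) := fun h hh => (cj_upG h).resolve_left hh
  intro g hg
  obtain ⟨s, hs⟩ := key g hg
  refine ⟨fun h hh => ?_, ?_⟩
  · obtain ⟨t, ht⟩ := key h hh
    refine ⟨up (t - s), up_mem _, ?_⟩
    rw [hs, ht, cj_cj, up_mul, sub_add_cancel]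
  · rw [hs]
    have h1 := (rel_up_lo F).conj (up s)
    rwa [cj_of_mem (up_mem s)] at h1

/-- The Sylow `p`-subgroups of `SL₂(k)`. -/
theorem slf_sl2 {F : Type} [Field F] [Finite F] {p : ℕ} [Fact p.Prime] [CharP F p]
    (Q : Sylow p (Matrix.SpecialLinearGroup (Fin 2) F)) :
    Slf (Q : Subgroup (Matrix.SpecialLinearGroup (Fin 2) F)) := by
  obtain ⟨g, hg⟩ := MulAction.exists_smul_eq (Matrix.SpecialLinearGroup (Fin 2) F) (sylU F p) Q
  rw [← hg]
  exact (slf_upG F).conj g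

end

/-- The Sylow subgroups of a homomorphic image with kernel of order prime to `p`. -/
theorem Slf.image {L G : Type*} [Group L] [Finite L] [Group G] {p : ℕ} [Fact p.Prime] (f : L →* G)
    (hf : Function.Surjective f) (hk : (Nat.card f.ker).Coprime p) (h : ∀ Q : Sylow p L, Slf (Q : Subgroup L))
    (P : Sylow p G) : Slf (P : Subgroup G) := by
  have : Finite G := Finite.of_surjective f hf
  obtain ⟨Q⟩ : Nonempty (Sylow p L) := inferInstance
  obtain ⟨g, hg⟩ := MulAction.exists_smul_eq G (Q.mapSurjective hf) P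
  have h1 : Slf ((Q : Subgroup L).map f) := by
    refine (h Q).map f (fun x hx hx1 => eq_one_of_coprime Q.isPGroup' hk hx hx1) fun g => ?_
    obtain ⟨l, rfl⟩ := hf g
    exact ⟨l, rfl⟩
  have h2 : (P : Subgroup G) = cj g ((Q : Subgroup L).map f) := by
    rw [← hg]
    rfl
  rw [h2]
  exact h1.conj g

/-- Groups isomorphic to quotients of `SL₂(k)` by groups of order prime to `p`. -/
theorem slf_quot {F : Type} [Field F] [Finite F] {p : ℕ} [Fact p.Prime] [CharP F p] {G : Type*} [Group G]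
    (f : Matrix.SpecialLinearGroup (Fin 2) F →* G) (hf : Function.Surjective f) (hk : (Nat.card f.ker).Coprime p)
    (P : Sylow p G) : Slf (P : Subgroup G) :=
  Slf.image f hf hk slf_sl2 P

end Cfsg.Agent.H331.D4
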